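import Mathlib

/-!
# The nilpotent Jordan block and the regular unipotent element of `SL_n(F)`
-/

set_option autoImplicit false

namespace Cfsg.Agent.H113.JordanBlock

open Matrix

variable {F : Type*} [Field F]

/-- The nilpotent Jordan block. -/
def N (F : Type*) [Field F] (n : ℕ) : Matrix (Fin n) (Fin n) F :=
  Matrix.of fun i j => if (i : ℕ) + 1 = j then 1 else 0

theorem N_apply (n : ℕ) (i j : Fin n) : N F n i j = if (i : ℕ) + 1 = j then 1 else 0 := rfl

theorem N_pow_apply (n k : ℕ) (i j : Fin n) : (N F n ^ k) i j = if (i : ℕ) + k = j then 1 else 0 := by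
  induction k generalizing j with
  | zero =>
    rw [pow_zero, Matrix.one_apply]
    simp [Fin.ext_iff]
  | succ k ih =>
    rw [pow_succ, Matrix.mul_apply]
    by_cases h : (i : ℕ) + k < n
    · rw [Finset.sum_eq_single ⟨(i : ℕ) + k, h⟩]
      · rw [ih, N_apply]
        simp [add_assoc]
      · intro b _ hb
        rw [ih, if_neg, zero_mul]
        intro h1
        exact hb (Fin.ext h1.symm)
      · simp
    · rw [Finset.sum_eq_zero, if_neg]
      · have := j.2
        omega
      · intro b _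
        rw [ih, if_neg, zero_mul]
        have := b.2
        omega

/-- The regular unipotent element. -/
def u (F : Type*) [Field F] (n : ℕ) : Matrix.SpecialLinearGroup (Fin n) F := ⟨1 + N F n, by
  rw [Matrix.det_of_isUpperTriangular]
  · refine Finset.prod_eq_one fun i _ => ?_
    rw [Matrix.add_apply, Matrix.one_apply_eq, N_apply, if_neg (by omega), add_zero]
  · intro i j hij
    have h1 : (j : ℕ) < i := hij
    have h2 : i ≠ j := by
      rintro rfl
      exact lt_irrefl _ h1
    rw [Matrix.add_apply, Matrix.one_apply_ne h2, N_apply, if_neg (by omega), add_zero]⟩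

theorem u_coe (n : ℕ) : ((u F n : Matrix.SpecialLinearGroup (Fin n) F) : Matrix (Fin n) (Fin n) F) = 1 + N F n := rfl

theorem N_pow_self (n : ℕ) : N F n ^ n = 0 := by
  ext i j
  rw [N_pow_apply, if_neg, Matrix.zero_apply]
  have := j.2
  omega

theorem u_nilpotent (n : ℕ) :
    IsNilpotent (((u F n : Matrix.SpecialLinearGroup (Fin n) F) : Matrix (Fin n) (Fin n) F) - 1) := by
  refine ⟨n, ?_⟩
  rw [u_coe, add_sub_cancel_left, N_pow_self]

theorem u_regular (n : ℕ) (hn : 0 < n) :
    (((u F n : Matrix.SpecialLinearGroup (Fin n) F) : Matrix (Fin n) (Fin n) F) - 1) ^ (n - 1) ≠ 0 := by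
  rw [u_coe, add_sub_cancel_left]
  intro h
  have := congrFun (congrFun h ⟨0, hn⟩) ⟨n - 1, by omega⟩
  rw [N_pow_apply, if_pos (by simp)] at this
  exact one_ne_zero this

/-- The basis vectors. -/
def e (F : Type*) [Field F] {n : ℕ} (k : ℕ) (hk : k < n) : Fin n → F := Pi.single ⟨k, hk⟩ 1

theorem e_congr {n k l : ℕ} (h : k = l) (hk : k < n) (hl : l < n) : e F k hk = e F l hl := by
  subst h
  rfl

theorem N_mulVec_e_succ {n k : ℕ} (hk : k + 1 < n) : N F n *ᵥ e F (k + 1) hk = e F k (by omega) := by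
  ext i
  rw [e, Matrix.mulVec_single_one, Matrix.col_apply, N_apply, e, Pi.single_apply]
  simp [Fin.ext_iff]

theorem N_mulVec_e_zero {n : ℕ} (hn : 0 < n) : N F n *ᵥ e F 0 hn = 0 := by
  ext i
  rw [e, Matrix.mulVec_single_one, Matrix.col_apply, N_apply, if_neg (by simp), Pi.zero_apply]

theorem e_vecMul_N_of_lt {n k : ℕ} (hk : k + 1 < n) : e F k (by omega) ᵥ* N F n = e F (k + 1) hk := by
  ext i
  rw [e, Matrix.single_one_vecMul, Matrix.row_apply, N_apply, e, Pi.single_apply]
  simp [Fin.ext_iff, eq_comm]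

theorem e_vecMul_N_last {n k : ℕ} (hk : k < n) (hk' : n ≤ k + 1) : e F k hk ᵥ* N F n = 0 := by
  ext i
  rw [e, Matrix.single_one_vecMul, Matrix.row_apply, N_apply, if_neg, Pi.zero_apply]
  have := i.2
  simp
  omega

theorem u_mulVec_e_succ {n k : ℕ} (hk : k + 1 < n) :
    (u F n : Matrix (Fin n) (Fin n) F) *ᵥ e F (k + 1) hk = e F (k + 1) hk + e F k (by omega) := by
  rw [u_coe, add_mulVec, one_mulVec, N_mulVec_e_succ]

theorem u_mulVec_e_zero {n : ℕ} (hn : 0 < n) : (u F n : Matrix (Fin n) (Fin n) F) *ᵥ e F 0 hn = e F 0 hn := by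
  rw [u_coe, add_mulVec, one_mulVec, N_mulVec_e_zero, add_zero]

theorem e_vecMul_u_of_lt {n k : ℕ} (hk : k + 1 < n) :
    e F k (by omega) ᵥ* (u F n : Matrix (Fin n) (Fin n) F) = e F k (by omega) + e F (k + 1) hk := by
  rw [u_coe, vecMul_add, vecMul_one, e_vecMul_N_of_lt]

theorem e_vecMul_u_last {n k : ℕ} (hk : k < n) (hk' : n ≤ k + 1) :
    e F k hk ᵥ* (u F n : Matrix (Fin n) (Fin n) F) = e F k hk := by
  rw [u_coe, vecMul_add, vecMul_one, e_vecMul_N_last hk hk', add_zero]

theorem e_dotProduct_e {n k l : ℕ} (hk : k < n) (hl : l < n) :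
    e F k hk ⬝ᵥ e F l hl = if k = l then 1 else 0 := by
  rw [e, e, single_one_dotProduct, Pi.single_apply]
  simp [Fin.ext_iff]

theorem e_dotProduct {n k : ℕ} (hk : k < n) (v : Fin n → F) : e F k hk ⬝ᵥ v = v ⟨k, hk⟩ := by
  rw [e, single_one_dotProduct]

theorem eq_sum_e {n : ℕ} (v : Fin n → F) : v = ∑ i : Fin n, v i • e F (i : ℕ) i.2 := by
  ext j
  rw [Finset.sum_apply, Finset.sum_eq_single j]
  · simp [e]
  · intro i _ hi
    simp [e, Ne.symm hi]
  · simp

end Cfsg.Agent.H113.JordanBlock
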