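import Mathlib
import Cfsg.Agent.LieClassical.SLGen

/-!
# Subgroups of `SL_n(F)` containing many transvections

`Has H v f` : the subgroup `H` of `SL(ι, F)` contains the element with matrix `1 + v fᵀ`.

* `Has.conj`, `Has.add`, `Has.neg`, `Has.comm`;
* `eq_top_of_full`: if `H` contains all transvections with functional `f`, and the functionals `f g`, `g ∈ H`,
  span the dual space, then `H` is everything.
-/

set_option autoImplicit false

namespace Cfsg.Agent.H113.TransvGen

open Matrix

variable {ι F : Type*} [Fintype ι] [DecidableEq ι] [Field F]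

/-- `H` contains the element with matrix `1 + v fᵀ`. -/
def Has (H : Subgroup (SpecialLinearGroup ι F)) (v f : ι → F) : Prop :=
  ∃ h ∈ H, (h : Matrix ι ι F) = 1 + vecMulVec v f

variable {H : Subgroup (SpecialLinearGroup ι F)}

theorem Has.zero_left (f : ι → F) : Has H 0 f := ⟨1, H.one_mem, by simp⟩

theorem Has.zero_right (v : ι → F) : Has H v 0 := ⟨1, H.one_mem, by simp⟩

theorem coe_mul_inv (g : SpecialLinearGroup ι F) :
    (g : Matrix ι ι F) * ((g⁻¹ : SpecialLinearGroup ι F) : Matrix ι ι F) = 1 := by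
  rw [← Matrix.SpecialLinearGroup.coe_mul, mul_inv_cancel, Matrix.SpecialLinearGroup.coe_one]

theorem coe_inv_mul (g : SpecialLinearGroup ι F) :
    ((g⁻¹ : SpecialLinearGroup ι F) : Matrix ι ι F) * (g : Matrix ι ι F) = 1 := by
  rw [← Matrix.SpecialLinearGroup.coe_mul, inv_mul_cancel, Matrix.SpecialLinearGroup.coe_one]

/-- Conjugation. -/
theorem Has.conj {v f : ι → F} (h : Has H v f) {g : SpecialLinearGroup ι F} (hg : g ∈ H) :
    Has H ((g : Matrix ι ι F) *ᵥ v) (f ᵥ* ((g⁻¹ : SpecialLinearGroup ι F) : Matrix ι ι F)) := by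
  obtain ⟨a, ha, e⟩ := h
  refine ⟨g * a * g⁻¹, H.mul_mem (H.mul_mem hg ha) (H.inv_mem hg), ?_⟩
  rw [Matrix.SpecialLinearGroup.coe_mul, Matrix.SpecialLinearGroup.coe_mul, e, mul_add, add_mul, mul_one, coe_mul_inv,
    mul_vecMulVec, vecMulVec_mul]

theorem Has.add {v w f : ι → F} (hv : Has H v f) (hw : Has H w f) (hf : f ⬝ᵥ w = 0) : Has H (v + w) f := by
  obtain ⟨a, ha, ea⟩ := hv
  obtain ⟨b, hb, eb⟩ := hw
  refine ⟨a * b, H.mul_mem ha hb, ?_⟩
  rw [Matrix.SpecialLinearGroup.coe_mul, ea, eb, mul_add, mul_one, add_mul, one_mul, vecMulVec_mul_vecMulVec, hf,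
    zero_smul, vecMulVec_zero, add_zero, add_vecMulVec, add_assoc]

theorem Has.neg {v f : ι → F} (h : Has H v f) (hf : f ⬝ᵥ v = 0) : Has H (-v) f := by
  obtain ⟨a, ha, ea⟩ := h
  refine ⟨a⁻¹, H.inv_mem ha, ?_⟩
  have h1 : (a : Matrix ι ι F) * (1 + vecMulVec (-v) f) = 1 := by
    rw [ea, mul_add, mul_one, add_mul, one_mul, vecMulVec_mul_vecMulVec, dotProduct_neg, hf, neg_zero, zero_smul,
      vecMulVec_zero, add_zero, neg_vecMulVec, add_neg_cancel_right]
  calc ((a⁻¹ : SpecialLinearGroup ι F) : Matrix ι ι F)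
      = ((a⁻¹ : SpecialLinearGroup ι F) : Matrix ι ι F) * ((a : Matrix ι ι F) * (1 + vecMulVec (-v) f)) := by
        rw [h1, mul_one]
    _ = 1 + vecMulVec (-v) f := by rw [← mul_assoc, coe_inv_mul, one_mul]

/-- Commutators: the transvections `1 + v fᵀ` and `1 + v' f'ᵀ` with `f(v') = 0` give `1 + f'(v) v' fᵀ`. -/
theorem Has.comm {v f v' f' : ι → F} (h : Has H v f) (h' : Has H v' f') (h1 : f ⬝ᵥ v = 0) (h2 : f' ⬝ᵥ v' = 0)
    (h3 : f ⬝ᵥ v' = 0) : Has H ((f' ⬝ᵥ v) • v') f := by
  obtain ⟨a, ha, ea⟩ := h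
  obtain ⟨b, hb, eb⟩ := h'
  refine ⟨b * a * (a * b)⁻¹, H.mul_mem (H.mul_mem hb ha) (H.inv_mem (H.mul_mem ha hb)), ?_⟩
  have hab : (a * b : SpecialLinearGroup ι F).1 = 1 + vecMulVec v f + vecMulVec v' f' := by
    change ((a * b : SpecialLinearGroup ι F) : Matrix ι ι F) = _
    rw [Matrix.SpecialLinearGroup.coe_mul, ea, eb, mul_add, mul_one, add_mul, one_mul, vecMulVec_mul_vecMulVec, h3,
      zero_smul, vecMulVec_zero, add_zero]
  have hba : (b * a : SpecialLinearGroup ι F).1 =
      (1 + vecMulVec ((f' ⬝ᵥ v) • v') f) * (a * b : SpecialLinearGroup ι F).1 := by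
    rw [hab]
    change ((b * a : SpecialLinearGroup ι F) : Matrix ι ι F) = _
    rw [Matrix.SpecialLinearGroup.coe_mul, ea, eb]
    simp only [mul_add, add_mul, mul_one, one_mul]
    rw [vecMulVec_mul_vecMulVec, vecMulVec_mul_vecMulVec, vecMulVec_mul_vecMulVec, h1, h3]
    simp only [zero_smul, vecMulVec_zero, add_zero, vecMulVec_smul, smul_vecMulVec]
    abel
  rw [Matrix.SpecialLinearGroup.coe_mul]
  change (b * a : SpecialLinearGroup ι F).1 * _ = _
  rw [hba, mul_assoc]
  have : (a * b : SpecialLinearGroup ι F).1 * ((a * b)⁻¹ : SpecialLinearGroup ι F).1 = 1 := coe_mul_inv _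
  rw [this, mul_one]

/-- `H` contains all the transvections with functional `f`. -/
def Full (H : Subgroup (SpecialLinearGroup ι F)) (f : ι → F) : Prop := ∀ v : ι → F, f ⬝ᵥ v = 0 → Has H v f

theorem Full.conj {f : ι → F} (h : Full H f) {g : SpecialLinearGroup ι F} (hg : g ∈ H) :
    Full H (f ᵥ* (g : Matrix ι ι F)) := by
  intro v hv
  have h1 : Has H ((g : Matrix ι ι F) *ᵥ v) f := h _ (by rw [dotProduct_mulVec]; exact hv)
  have h2 := h1.conj (H.inv_mem hg)
  rw [inv_inv, mulVec_mulVec, coe_inv_mul, one_mulVec] at h2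
  exact h2

theorem Full.smul {f : ι → F} (h : Full H f) (c : F) : Full H (c • f) := by
  intro v hv
  by_cases hc : c = 0
  · rw [hc, zero_smul]
    exact Has.zero_right v
  · have h1 : f ⬝ᵥ v = 0 := by
      rw [smul_dotProduct, smul_eq_mul] at hv
      exact (mul_eq_zero.1 hv).resolve_left hc
    obtain ⟨a, ha, ea⟩ := h (c • v) (by rw [dotProduct_smul, h1, smul_zero])
    exact ⟨a, ha, by rw [ea, vecMulVec_smul, smul_vecMulVec]⟩

/-- Two functionals which are not proportional take the values 0, 1 somewhere. -/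
theorem exists_vec {f f' : ι → F} (hne : ∀ c : F, f ≠ c • f') (h0 : f' ≠ 0) :
    ∃ v : ι → F, f' ⬝ᵥ v = 0 ∧ f ⬝ᵥ v = 1 := by
  obtain ⟨i, hi⟩ := Function.ne_iff.1 h0
  rw [Pi.zero_apply] at hi
  obtain ⟨j, hj⟩ : ∃ j, f j ≠ (f i / f' i) * f' j := by
    by_contra hno
    push Not at hno
    exact hne (f i / f' i) (funext fun j => by simpa using hno j)
  set d : F := f j - f i / f' i * f' j with hd
  have hd0 : d ≠ 0 := sub_ne_zero.2 hj
  refine ⟨d⁻¹ • (Pi.single j 1 - (f' j / f' i) • Pi.single i 1), ?_, ?_⟩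
  · rw [dotProduct_smul, dotProduct_sub, dotProduct_smul, dotProduct_single, dotProduct_single]
    simp only [mul_one, smul_eq_mul]
    rw [div_mul_cancel₀ _ hi, sub_self, mul_zero]
  · rw [dotProduct_smul, dotProduct_sub, dotProduct_smul, dotProduct_single, dotProduct_single]
    simp only [mul_one, smul_eq_mul]
    rw [show f j - f' j / f' i * f i = d from by rw [hd]; ring, inv_mul_cancel₀ hd0]

theorem Full.sub {f f' : ι → F} (h : Full H f) (h' : Full H f') : Full H (f - f') := by
  by_cases h0 : f' = 0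
  · rw [h0, sub_zero]
    exact h
  by_cases hne : ∀ c : F, f ≠ c • f'
  · obtain ⟨v, hv1, hv2⟩ := exists_vec hne h0
    obtain ⟨a, ha, ea⟩ := h' (-v) (by rw [dotProduct_neg, hv1, neg_zero])
    have := h.conj ha
    rw [ea, vecMul_add, vecMul_one, vecMul_vecMulVec, dotProduct_neg, hv2] at this
    convert this using 1
    simp [sub_eq_add_neg]
  · push Not at hne
    obtain ⟨c, rfl⟩ := hne
    have : c • f' - f' = (c - 1) • f' := by rw [sub_smul, one_smul]
    rw [this]
    exact h'.smul _

theorem Full.add {f f' : ι → F} (h : Full H f) (h' : Full H f') : Full H (f + f') := by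
  have := h.sub (h'.smul (-1))
  rwa [neg_smul, one_smul, sub_neg_eq_add] at this

theorem full_zero : Full H (0 : ι → F) := fun v _ => Has.zero_right v

/-- The functionals for which `H` contains all transvections form a subspace. -/
def fullSub (H : Subgroup (SpecialLinearGroup ι F)) : Submodule F (ι → F) where
  carrier := {f | Full H f}
  add_mem' := fun h h' => Full.add h h'
  zero_mem' := full_zero
  smul_mem' := fun c _ h => Full.smul h c

theorem mem_fullSub {f : ι → F} : f ∈ fullSub H ↔ Full H f := Iff.rfl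

/-- A subgroup containing all the transvections is everything. -/
theorem eq_top_of_forall_full (h : ∀ f : ι → F, Full H f) : H = ⊤ := by
  rw [eq_top_iff, ← Cfsg.Agent.LieClassical.SLGen.closure_transvections, Subgroup.closure_le]
  rintro A ⟨i, j, hij, c, rfl⟩
  obtain ⟨a, ha, ea⟩ := h (Pi.single j 1) (c • Pi.single i 1) (by
    rw [dotProduct_smul, single_dotProduct]
    simp [hij.symm])
  have : a = SpecialLinearGroup.transvection hij c := by
    apply Subtype.ext
    change (a : Matrix ι ι F) = _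
    rw [ea]
    have h1 : ((SpecialLinearGroup.transvection hij c : SpecialLinearGroup ι F) : Matrix ι ι F) =
      1 + Matrix.single i j c := rfl
    change _ = ((SpecialLinearGroup.transvection hij c : SpecialLinearGroup ι F) : Matrix ι ι F)
    rw [h1]
    congr 1
    ext k l
    rw [vecMulVec_apply, Matrix.single_apply]
    by_cases hk : i = k <;> by_cases hl : j = l <;> simp [hk, hl, eq_comm]
  rw [← this]
  exact ha

/-- **A subgroup containing all the transvections with functional `f`, whose functionals `f g` span, is everything.** -/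
theorem eq_top_of_full {f : ι → F} (h : Full H f)
    (hspan : ∀ S : Submodule F (ι → F), f ∈ S → (∀ g ∈ H, ∀ x ∈ S, x ᵥ* (g : Matrix ι ι F) ∈ S) → S = ⊤) :
    H = ⊤ := by
  have := hspan (fullSub H) h (fun g hg x hx => Full.conj hx hg)
  apply eq_top_of_forall_full
  intro f'
  rw [← mem_fullSub, this]
  trivial

end Cfsg.Agent.H113.TransvGen
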